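import Cfsg.Agent.HZ.Spor.Eng
import Cfsg.Agent.TH.Spor.InA
import Cfsg.Agent.TH.Spor.InB
import Cfsg.Agent.TH.Spor.InC
import Cfsg.Agent.TH.Spor.InD
import Cfsg.Agent.TH.Spor.InE
import Cfsg.Agent.TAB.F23C.Main
import Cfsg.Agent.TAB.F24C.Main
import Cfsg.Agent.H235.EvenSpor
import Cfsg.Agent.H235.EvenMon
import Cfsg.Agent.H235.EvenFiTwo
import Cfsg.Agent.H237.EvenFi
import Cfsg.Agent.Omega.Quasithin.Row.Ru
import Cfsg.Agent.H161.RowReeJ1
import Cfsg.Agent.S2045
import Cfsg.Agent.S2050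
import Cfsg.Agent.S2054
import Cfsg.Agent.S2056
import Cfsg.Agent.S2059

/-!
# HZ (S4909): the sporadic row `BoxN.spor` (helper46)
-/

set_option autoImplicit false
set_option maxRecDepth 100000

namespace Cfsg.Agent.HZ.Spor

open Cfsg Subgroup Cfsg.Agent.TH.Spor

theorem j1 : Row fun S _ => Spor.IsoJ1 S := by
  intro M hM X _ _ _ ⟨e⟩ _
  have : Fact (Nat.Prime 2) := ⟨Nat.prime_two⟩
  let π : X →* Spor.J1 := e.toMonoidHom.comp (QuotientGroup.mk' (center X))
  refine hf_of (π := π) hM (fun x hx => by simpa [π] using hx) fun _ _ _ u _ _ _ _ ⟨k, hk⟩ h4 => absurd ?_ h4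
  have h1 : IsPGroup 2 (zpowers (π u)) := by
    obtain ⟨j, -, hj⟩ := (Nat.dvd_prime_pow Nat.prime_two).1 (hk ▸ orderOf_map_dvd π u)
    exact IsPGroup.of_card (n := j) (by rw [Nat.card_zpowers, hj])
  obtain ⟨P, hP⟩ := h1.exists_le_sylow
  rw [show (4 : ℕ) = 2 * 2 from rfl, pow_mul, sq (π u), H161.RowReeJ1.j1_sq P _ (hP (mem_zpowers _)), one_pow]

theorem m12 : Row fun S _ => Spor.IsoM12 S :=
  row_cov (fun _ _ => in_m12) [] (fun _ _ _ _ h => absurd rfl h) rfl (by decide +kernel)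

theorem j2 : Row fun S _ => Spor.IsoJ2 S :=
  row_cov (fun _ _ => in_j2) [] (fun _ _ _ _ h => absurd rfl h) rfl (by decide +kernel)

theorem mcl : Row fun S _ => Spor.IsoMcL S :=
  row_cov (fun _ _ => in_mcl) [] (fun _ _ _ _ h => absurd rfl h) rfl (by decide +kernel)

theorem hs : Row fun S _ => Spor.IsoHS S :=
  row_cov (fun _ _ => in_hs) [] (fun _ _ _ _ h => absurd rfl h) rfl (by decide +kernel)

theorem he : Row fun S _ => Spor.IsoHe S :=
  row_cov (fun _ _ => in_he) [] (fun _ _ _ _ h => absurd rfl h) rfl (by decide +kernel)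

theorem on : Row fun S _ => Spor.IsoON S :=
  row_cov (fun _ _ => in_on) [] (fun _ _ _ _ h => absurd rfl h) rfl (by decide +kernel)

theorem co1 : Row fun S _ => Spor.IsoCo1 S :=
  row_cov (fun _ _ => in_co1) [(4, 17), (5, 19), (6, 20), (14, 37)] (fun _ _ _ h _ => H235.EvenSpor.coOne h)
    (by decide +kernel) (by decide +kernel)

theorem suz : Row fun S _ => Spor.IsoSuz S :=
  row_cov (fun _ _ => in_suz) [(36, 28)] (fun _ _ _ h _ => H235.EvenSpor.suz h) (by decide +kernel) (by decide +kernel)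

theorem ru : Row fun S _ => Spor.IsoRu S :=
  row_cov (fun _ _ => in_ru) [(3, 10)] (fun S _ _ h _ => Omega.Quasithin.Ru.row_ru S h) (by decide +kernel)
    (by decide +kernel)

theorem fi22 : Row fun S _ => Spor.IsoFi22 S :=
  row_cov (fun _ _ => in_fi22) [(7, 22)] (fun _ _ _ h _ => H235.EvenFiTwo.fiTwo h) (by decide +kernel)
    (by decide +kernel)

theorem fi24 : Row fun S _ => Spor.IsoFi24' S :=
  row_cov (fun _ _ => in_fi24 TAB.F24C.inF24) [(4, 15), (5, 16), (6, 19), (7, 22)]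
    (fun _ _ _ h _ => H237.EvenFi.even_of_iso h) (by decide +kernel) (by decide +kernel)

theorem baby : Row fun S _ => Spor.IsoB S :=
  row_cov (fun _ _ => in_b) [(5, 21), (6, 25), (17, 48), (18, 50), (30, 78)] (fun _ _ _ h _ => H235.EvenMon.baby h)
    (by decide +kernel) (by decide +kernel)

theorem co3 : Row fun S _ => Spor.IsoCo3 S :=
  row_one S2045.result (fun _ _ => in_co3) [] (fun _ _ _ _ h => absurd rfl h) rfl [] [3] 10 (by decide +kernel)
    (by decide +kernel)

theorem ly : Row fun S _ => Spor.IsoLy S :=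
  row_one S2050.result (fun _ _ => in_ly) [] (fun _ _ _ _ h => absurd rfl h) rfl [16, 25] [2, 3, 5] 8
    (by decide +kernel) (by decide +kernel)

theorem fi23 : Row fun S _ => Spor.IsoFi23 S :=
  row_one S2054.result (fun _ _ => in_fi23 TAB.F23C.inF23) [] (fun _ _ _ _ h => absurd rfl h) rfl [75] [6, 7] 18
    (by decide +kernel) (by decide +kernel)

theorem hn : Row fun S _ => Spor.IsoHN S :=
  row_one S2056.result (fun _ _ => in_hn) [] (fun _ _ _ _ h => absurd rfl h) rfl [35, 41, 38] [8] 14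
    (by decide +kernel) (by decide +kernel)

theorem monster : Row fun S _ => Spor.IsoM S :=
  row_one S2059.result (fun _ _ => in_m) [(3, 14), (4, 13), (5, 17), (10, 29), (11, 31), (18, 47), (19, 48), (33, 74)]
    (fun _ _ _ h _ => H235.EvenMon.monster h) (by decide +kernel) [128, 161] [44] 46 (by decide +kernel)
    (by decide +kernel)

/-- **`BoxN.spor`** -/
theorem spor : Row fun S _ => IsSporadicGroup S := by
  intro M hM X _ _ hX h ih
  rcases h with h | h | h | h | h | h | h | h | h | h | h | h | h | h | h | h | h | h | h | h | h | h | h | h | h | h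
  exacts [Two.m11 M hM X hX h ih, m12 M hM X hX h ih, Two.m22 M hM X hX h ih, Two.m23 M hM X hX h ih,
    Two.m24 M hM X hX h ih, j1 M hM X hX h ih, j2 M hM X hX h ih, Two.j3 M hM X hX h ih, Two.j4 M hM X hX h ih,
    co1 M hM X hX h ih, Two.co2 M hM X hX h ih, co3 M hM X hX h ih, mcl M hM X hX h ih, hs M hM X hX h ih,
    suz M hM X hX h ih, he M hM X hX h ih, ru M hM X hX h ih, on M hM X hX h ih, ly M hM X hX h ih,
    fi22 M hM X hX h ih, fi23 M hM X hX h ih, fi24 M hM X hX h ih, hn M hM X hX h ih, Two.th M hM X hX h ih,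
    baby M hM X hX h ih, monster M hM X hX h ih]

end Cfsg.Agent.HZ.Spor
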