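import Cfsg.Agent.HZ.Spor.Gen
import Cfsg.Agent.TAB.Use.Main
import Cfsg.Agent.TH.Spor.Defs
import Cfsg.Agent.QTKE.Base
import Cfsg.Agent.H244.Kondo.Lift
import Cfsg.Agent.ODD.Cov.Basic

/-!
# HZ (S4909), the sporadic row: the checks on the tables (helper46)

* `okY` : the types of odd order which commute with an element of order eight;
* `okW` : such a type commutes with a `2`-central involution;
* `okS` : the characters which are units on such a type are fixed.
-/

set_option autoImplicit false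

namespace Cfsg.Agent.HZ.Spor

open Cfsg Subgroup Cfsg.Agent.ODD Cfsg.Agent.ODD.Red Cfsg.Agent.Blocks Cfsg.Agent.Characters
open Cfsg.Agent.TAB.Eng
open Cfsg.Agent.TAB.Use (Rows Tab Inh Enum Rel fixB coef)
open Cfsg.Agent.TH.Spor (Unif In)

variable {M : Ideal AlgInt} {S : Type} [Group S] [Finite S] {D : Dat} {T : TD S D} {R : Rows}

theorem look_mem (l : List (ℕ × ℕ)) (d : ℕ) : look l d ∈ 0 :: l.map Prod.snd := by
  induction l with
  | nil => exact List.mem_cons_self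
  | cons p l ih =>
    rw [look]
    split_ifs
    · simp
    · rcases List.mem_cons.1 ih with h | h
      · rw [h]; exact List.mem_cons_self
      · exact List.mem_cons_of_mem _ (List.mem_cons_of_mem _ h)

/-- the powers of odd order of the elements of order divisible by eight have their types in `Y` -/
def okY (D : Dat) (Y : List ℕ) : Bool :=
  (List.range D.n).all fun s => D.ord s % 8 != 0 || (0 :: (D.pw s).map Prod.snd).all fun t =>
    D.ord t % 2 == 0 || D.ord t == 1 || decide (t ∈ Y)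

theorem ty_mem (T : TD S D) {Y : List ℕ} (h : okY D Y = true) {u y : S} (hc : Commute u y) {k : ℕ}
    (hu : u ^ 2 ^ k = 1) (h4 : u ^ 4 ≠ 1) (ho : Odd (orderOf y)) (h1 : y ≠ 1) : T.ty y ∈ Y := by
  obtain ⟨j, -, hj⟩ := (Nat.dvd_prime_pow Nat.prime_two).1 (orderOf_dvd_of_pow_eq_one hu)
  have h2 : 3 ≤ j := by
    by_contra h2
    exact h4 (orderOf_dvd_iff_pow_eq_one.1 (hj ▸ (pow_dvd_pow 2 (show j ≤ 2 by omega) : 2 ^ j ∣ 2 ^ 2)))
  have hcop : (2 ^ j).Coprime (orderOf y) := Nat.Coprime.pow_left j (Nat.coprime_two_left.2 ho)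
  have h3 : orderOf (u * y) = 2 ^ j * orderOf y := by
    rw [← hj]
    exact hc.orderOf_mul_eq_mul_orderOf_of_coprime (hj ▸ hcop)
  obtain ⟨e, he1, he2⟩ := Nat.chineseRemainder hcop 0 1
  have h5 : (u * y) ^ e = y := by
    rw [hc.mul_pow, pow_eq_pow_of_modEq he1 (hj ▸ pow_orderOf_eq_one u), pow_eq_pow_of_modEq he2 (pow_orderOf_eq_one y),
      pow_zero, pow_one, one_mul]
  have h6 := List.all_eq_true.1 h _ (List.mem_range.2 (T.lt (u * y)))
  have h7 : D.ord (T.ty (u * y)) % 8 = 0 := by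
    rw [← T.ord, h3]
    exact Nat.mod_eq_zero_of_dvd ((pow_dvd_pow 2 h2 : 2 ^ 3 ∣ 2 ^ j).mul_right _)
  rw [h7, bne_self_eq_false, Bool.false_or] at h6
  have h8 := List.all_eq_true.1 h6 (T.ty y) (by
    have h9 := T.pow (u * y) e
    rw [h5] at h9
    rw [h9]
    exact look_mem _ _)
  rw [← T.ord] at h8
  simp only [Bool.or_eq_true, beq_iff_eq, decide_eq_true_eq, orderOf_eq_one_iff] at h8
  rcases h8 with (h8 | h8) | h8
  · have := Nat.odd_iff.1 ho
    omega
  · exact absurd h8 h1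
  · exact h8

/-- `(y, s)` : the squares of the elements of type `s` have the type `y` of prime order, and they commute with an
involution of a type with an odd number of elements -/
def okW (D : Dat) (W : List (ℕ × ℕ)) : Bool :=
  W.all fun p => decide (p.2 < D.n) && decide (0 < D.cnt p.2) && D.pwf p.2 2 == p.1 &&
    decide (D.ord p.1 ∈ [3, 5, 7, 11, 13]) && D.ord (D.pwf p.2 (D.ord p.1)) == 2 &&
    D.cnt (D.pwf p.2 (D.ord p.1)) % 2 == 1

theorem index_eq (hm : T.Mass) (hu : Unif T) {s : S} (hs : orderOf s = 2) :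
    (centralizer ({s} : Set S)).index = D.cnt (T.ty s) := by
  have h1 : Nat.card {g : S // IsConj s g} = D.cnt (T.ty s) := by
    rw [← hm.2 _ (T.lt s)]
    refine Nat.card_congr (Equiv.subtypeEquivRight fun g => ⟨fun hg => ?_, fun hg => ?_⟩)
    · obtain ⟨c, rfl⟩ := isConj_iff.1 hg
      exact T.conj _ _
    · obtain ⟨k, hk⟩ := hu s g (hs ▸ Nat.prime_two) hg.symm
      rw [← pow_mod_orderOf, hs] at hk
      rcases Nat.mod_two_eq_zero_or_one k with h | h
      · rw [h, pow_zero, isConj_one_right] at hk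
        have h2 := T.ord g
        rw [hg, ← T.ord, hs, hk, orderOf_one] at h2
        omega
      · rwa [h, pow_one] at hk
  refine Nat.eq_of_mul_eq_mul_right (Nat.card_pos (α := centralizer ({s} : Set S))) ?_
  rw [← h1, card_class, index_mul_card]

theorem exists_inv (hm : T.Mass) (hu : Unif T) {W : List (ℕ × ℕ)} (h : okW D W = true) {y : S}
    (hy : T.ty y ∈ W.map Prod.fst) : ∃ s : S, orderOf s = 2 ∧ Commute s y ∧ Odd (centralizer ({s} : Set S)).index := by
  obtain ⟨p, hp, h1⟩ := List.mem_map.1 hy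
  have h2 := List.all_eq_true.1 h p hp
  simp only [Bool.and_eq_true, decide_eq_true_eq, beq_iff_eq] at h2
  obtain ⟨⟨⟨⟨⟨h2, h3⟩, h4⟩, h5⟩, h6⟩, h7⟩ := h2
  rw [← hm.2 _ h2] at h3
  obtain ⟨⟨g, hg⟩⟩ := (Nat.card_pos_iff.1 h3).1
  have h8 : T.ty (g ^ 2) = p.1 := by rw [T.pow, hg, h4]
  have h9 : ∀ q ∈ [3, 5, 7, 11, 13], Nat.Prime q := by decide
  obtain ⟨k, hk⟩ := hu (g ^ 2) y (by rw [T.ord, h8]; exact h9 _ h5) (h8.trans h1)
  obtain ⟨c, rfl⟩ := isConj_iff.1 hk
  have h10 : T.ty (c * g ^ D.ord p.1 * c⁻¹) = D.pwf p.2 (D.ord p.1) := by rw [T.conj, T.pow, hg]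
  have h11 : orderOf (c * g ^ D.ord p.1 * c⁻¹) = 2 := by rw [T.ord, h10, h6]
  refine ⟨_, h11, ?_, ?_⟩
  · exact (((Commute.refl g).pow_pow _ 2).pow_right k).map (MulAut.conj c)
  · rw [index_eq hm hu h11, h10]
    exact Nat.odd_iff.2 h7

/-- the character `j` is one of a pair whose sum is not `2` modulo `4` on the types of `Y` -/
def pairY (R : Rows) (Y : List ℕ) (j : ℕ) (r : List (ℕ × ℤ) × List ℤ) : Bool :=
  (r.1.any fun q => decide (q.1 < R.n) && q.1 != j && (r.1 == [(j, 1), (q.1, 1)] || r.1 == [(q.1, 1), (j, 1)])) &&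
    Y.all fun t => r.2.getD t 0 % 4 != 2

/-- the sieve -/
def okS (D : Dat) (R : Rows) (L Y : List ℕ) (a : ℕ) : Bool :=
  (L.all fun t => decide (t < D.n) && decide (0 < D.cnt t) && D.ord t % 8 != 0) && D.N % 2 ^ (a + 1) != 0 &&
    (List.range R.n).all fun j => R.d j % 2 ^ a == 0 || R.rel.any (pairY R Y j) || fixB R L j

theorem fix_root {τ : ℂ ≃+* ℂ} (hτ : Two τ) (hI : τ Complex.I = Complex.I) {n : ℕ} (hn : n % 8 ≠ 0) (z : ℂ)
    (hz : z ^ n = 1) : τ z = z ^ 1 := by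
  have h0 : n ≠ 0 := by omega
  obtain ⟨k, h1, h2, h3⟩ := exists_exp hτ hI h0
  obtain ⟨a, m, hm, rfl⟩ := Nat.exists_eq_two_pow_mul_odd h0
  have h4 : a ≤ 2 := by
    by_contra h4
    exact hn (Nat.mod_eq_zero_of_dvd ((pow_dvd_pow 2 (show 3 ≤ a by omega) : 2 ^ 3 ∣ 2 ^ a).mul_right _))
  rw [h3 z hz]
  refine pow_eq_pow_of_modEq ?_ hz
  refine (Nat.modEq_and_modEq_iff_modEq_mul (Nat.Coprime.pow_left a (Nat.coprime_two_left.2 hm))).1
    ⟨Nat.ModEq.of_dvd (pow_dvd_pow 2 h4 : 2 ^ a ∣ 2 ^ 2) h1, h2 m hm (dvd_mul_left _ _)⟩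

theorem sieve (hM : IsPModular 2 M) (hm : T.Mass) (hT : Tab T R) {L Y : List ℕ} {a : ℕ} (h : okS D R L Y a = true)
    {ψ : S → ℂ} (hψ : IsIrrCharacter S ψ) {y : S} (ho : Odd (orderOf y)) (hy : Good M ψ y) (hY : T.ty y ∈ Y)
    (h2 : 2 ∣ Nat.card (centralizer ({y} : Set S))) {σ : ℂ ≃+* ℂ} (hσ : Sg σ) (hfix : Fix σ ψ) : Rat2 ψ := by
  obtain ⟨χ, hE, hR⟩ := hT
  obtain ⟨j, hj, rfl⟩ := hE.all ψ hψ
  simp only [okS, Bool.and_eq_true, List.all_eq_true, decide_eq_true_eq, bne_iff_ne, List.mem_range, Bool.or_eq_true,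
    beq_iff_eq, List.any_eq_true] at h
  obtain ⟨⟨hL, hN⟩, h⟩ := h
  refine rat2_of_fixI hσ hfix fun τ hτ hI => ?_
  rcases h j hj with (h | ⟨r, hr, h⟩) | h
  · exfalso
    apply hN
    have h3 : 2 ^ a ∣ (centralizer ({y} : Set S)).index := by
      rw [Nat.prime_two.pow_dvd_iff_le_factorization index_ne_zero_of_finite, hy.nu hM hψ,
        ← Nat.prime_two.pow_dvd_iff_le_factorization (Basic.charDegree_pos hψ).ne', hE.charDegree_eq hj]
      exact Nat.dvd_of_mod_eq_zero h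
    rw [← hm.1, ← (centralizer ({y} : Set S)).index_mul_card, pow_succ]
    exact Nat.mod_eq_zero_of_dvd (Nat.mul_dvd_mul h3 h2)
  · simp only [pairY, Bool.and_eq_true, List.any_eq_true, decide_eq_true_eq, bne_iff_ne, ne_eq, Bool.or_eq_true,
      beq_iff_eq, List.all_eq_true] at h
    obtain ⟨⟨⟨k, b⟩, -, ⟨hk, hne⟩, h3⟩, h4⟩ := h
    dsimp only at hk hne h3
    have hl : ∀ p ∈ r.1, p.1 = j ∨ p.1 = k := by
      rcases h3 with h | h <;> rw [h] <;> simp
    have hl' : ∀ p ∈ r.1, p.1 < R.n := fun p hp => by rcases hl p hp with h1 | h1 <;> rw [h1] <;> assumption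
    have hcj : coef r.1 j = 1 := by rcases h3 with h | h <;> rw [h] <;> simp [coef, hne]
    obtain ⟨i, hi, h5, -⟩ := hE.exists_map τ hj
    obtain ⟨p, hp, h6⟩ := TAB.Use.exists_of_coef (c := r.1) (i := i) (by
      rw [TAB.Use.coef_map hE hR hr hl' hj hi h5, hcj]; exact one_ne_zero)
    rcases hl p hp with h7 | h7
    · rw [← h6, h7] at h5
      exact h5
    · exfalso
      rw [← h6, h7] at h5
      have h8 : τ (χ j y) = χ j (y ^ 1) := GaloisBasic.map_apply (τ : ℂ →+* ℂ)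
        (fun z hz => (hτ _ z ho hz).trans (pow_one z).symm) (Core.isIrr_isCharacter hψ) (orderOf_pos y).ne'
        (pow_orderOf_eq_one y)
      rw [pow_one] at h8
      have h9 : χ j y + χ j y = ((r.2.getD (T.ty y) 0 : ℤ) : ℂ) := by
        rw [← hR r hr y]
        rcases h3 with h | h <;> rw [h] <;> simp [← h5 y, h8]
      have h10 := TAB.Use.even_of_integral (GaloisBasic.isIntegral_apply (Core.isIrr_isCharacter hψ) y) h9
      have h11 := h4 _ hY
      obtain ⟨w, hw⟩ : 4 ∣ r.2.getD (T.ty y) 0 := by omega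
      apply hy.1
      have h12 : χ j y = ((2 * w : ℤ) : ℂ) := by
        rw [hw] at h9
        push_cast at h9 ⊢
        linear_combination h9 / 2
      rw [h12, LocalRing.memLocalIdeal_intCast_iff hM]
      exact dvd_mul_right _ _
  · refine TAB.Use.fix_of_chk hE hR (fun t ht => ?_) hj h
    obtain ⟨⟨h3, h4⟩, h5⟩ := hL t ht
    rw [← hm.2 _ h3] at h4
    obtain ⟨⟨g, rfl⟩⟩ := (Nat.card_pos_iff.1 h4).1
    exact TAB.Use.good_of_conj (k := 1) (by rw [pow_one]) (fix_root hτ hI (by rwa [T.ord]))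

section

variable {X : Type} [Group X] [Finite X]

/-- all covers: the types of `W` commute with `2`-central involutions -/
theorem hf_cov (hM : IsPModular 2 M) (π : X →* S) (hπ : Function.Surjective π) (hk : π.ker ≤ center X) (hm : T.Mass)
    (hu : Unif T) (W : List (ℕ × ℕ)) (hE : W ≠ [] → IsOfEvenCharacteristic S) (hW : okW D W = true) {Y : List ℕ}
    (hY : okY D (W.map Prod.fst ++ Y) = true)
    (h : ∀ χ : X → ℂ, IsIrrCharacter X χ → ∀ y : X, Odd (orderOf y) → Good M χ y → T.ty (π y) ∈ Y →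
      2 ∣ Nat.card (centralizer ({y} : Set X)) → ∀ σ, Sg σ → Fix σ χ → Rat2 χ) : HF M X := by
  refine hf_of hM hk fun χ hχ y u ho hy h1 hc ⟨k, hk'⟩ h4 σ hσ hfix => ?_
  have h2 : π u ^ 2 ^ k = 1 := by rw [← map_pow, ← hk', pow_orderOf_eq_one, map_one]
  rcases List.mem_append.1 (ty_mem T hY (hc.map π) h2 h4 (ho.of_dvd_nat (orderOf_map_dvd π y)) h1) with h3 | h3
  · obtain ⟨s, h5, h6, h7⟩ := exists_inv hm hu hW h3
    refine rat2_of_fix Fin.qa hχ (odd_of_cent hM hπ hk hχ ho hy h5 h6 h7 ?_) hσ.2 hfix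
    exact hE (by rintro rfl; exact absurd h3 List.not_mem_nil) _ (QTKE.isTwoLocal_centralizer h5)
      (H244.Kondo.exists_sylow_le h7)
  · refine h χ hχ y ho hy h3 ?_ σ hσ hfix
    have h5 : k ≠ 0 := by
      rintro rfl
      rw [pow_zero, pow_one] at h2
      exact h4 (by rw [h2, one_pow])
    refine (dvd_pow_self 2 h5).trans ?_
    rw [← hk', ← Nat.card_zpowers]
    exact card_dvd_of_le (zpowers_le.2 (mem_centralizer_singleton_iff.2 hc))

end

/-- **rows with arbitrary covers** -/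
theorem row_cov {K : Fam} (hI : ∀ (S : Type) [Group S], K S → In S D R) (W : List (ℕ × ℕ))
    (hE : ∀ (S : Type) [Group S] [Finite S], K S → W ≠ [] → IsOfEvenCharacteristic S) (hW : okW D W = true)
    (hY : okY D (W.map Prod.fst ++ []) = true) : Row K := by
  intro M hM X _ _ _ hK _
  obtain ⟨T, hm, -, hu⟩ := hI _ hK
  exact hf_cov hM (QuotientGroup.mk' (center X)) (QuotientGroup.mk'_surjective _) (QuotientGroup.ker_mk' _).le hm hu W
    (hE _ hK) hW hY fun _ _ _ _ _ h => absurd h List.not_mem_nil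

/-- **rows with a trivial multiplier** -/
theorem row_one {G : Type} [Group G] (hG : HasCyclicSchurMultiplier G 1)
    (hI : ∀ (S : Type) [Group S], Nonempty (S ≃* G) → In S D R) (W : List (ℕ × ℕ))
    (hE : ∀ (S : Type) [Group S] [Finite S], Nonempty (S ≃* G) → W ≠ [] → IsOfEvenCharacteristic S)
    (hW : okW D W = true) (L Y : List ℕ) (a : ℕ) (hY : okY D (W.map Prod.fst ++ Y) = true)
    (hS : okS D R L Y a = true) : Row fun S _ => Nonempty (S ≃* G) := by
  intro M hM X _ _ hX ⟨e⟩ _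
  have h1 := (Cv.MB.of_cyc hG).congr e X hX.1.commutator_eq_top (QuotientGroup.mk' (center X))
    (QuotientGroup.mk'_surjective _) (QuotientGroup.ker_mk' _).le
  rw [QuotientGroup.ker_mk', Nat.dvd_one, card_eq_one] at h1
  have h2 : Nonempty (X ≃* G) := ⟨(Cv.eqv h1).trans e⟩
  obtain ⟨T, hm, hT, hu⟩ := hI _ h2
  exact hf_cov hM (MonoidHom.id X) Function.surjective_id (fun g hg => (show g = 1 from hg) ▸ one_mem _) hm hu W
    (hE _ h2) hW hY fun χ hχ y ho hy h3 h4 σ hσ hfix => sieve hM hm hT hS hχ ho hy h3 h4 hσ hfix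

end Cfsg.Agent.HZ.Spor
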