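import Cfsg.Agent.HZ.Two.Row
import Cfsg.Agent.S0906
import Cfsg.Agent.S0912
import Cfsg.Agent.S0917
import Cfsg.Agent.S0958
import Cfsg.Agent.PLocal.PConstrainedLocal

/-!
# HZ (S4909), the sporadic row: two general lemmas (helper46)

* `hf_of` : only good elements of odd order whose image commutes with an element of order at least eight matter;
* `odd_of_cent` : a good element of odd order whose image commutes with an involution whose centraliser has odd index
  and characteristic two forces odd degree.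
-/

set_option autoImplicit false

namespace Cfsg.Agent.HZ.Spor

open Cfsg Subgroup Cfsg.Agent.ODD Cfsg.Agent.ODD.Red Cfsg.Agent.Blocks
open Cfsg.Agent.BpLieP.Big (LocChar)

variable {M : Ideal AlgInt} {X S : Type} [Group X] [Finite X] [Group S] {π : X →* S} {χ : X → ℂ}

/-- the reduction to the pairs `(u, y)` -/
theorem hf_of (hM : IsPModular 2 M) (hk : π.ker ≤ center X)
    (h : ∀ χ : X → ℂ, IsIrrCharacter X χ → ∀ y u : X, Odd (orderOf y) → Good M χ y → π y ≠ 1 → Commute u y →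
      (∃ k : ℕ, orderOf u = 2 ^ k) → π u ^ 4 ≠ 1 → ∀ σ, Sg σ → Fix σ χ → Rat2 χ) : HF M X := by
  intro χ hχ hf h0 σ hσ hfix
  obtain ⟨y, ho, hy⟩ := h0.odd hM hχ
  by_cases h1 : π y = 1
  · refine rat2_of_fix Fin.qa hχ (hy.odd_deg hM hχ ?_) hσ.2 hfix
    have h2 : centralizer ({y} : Set X) = ⊤ :=
      eq_top_iff.2 fun c _ => mem_centralizer_singleton_iff.2 (mem_center_iff.1 (hk h1) c)
    rw [h2, index_top]
    exact odd_one
  by_cases h2 : ∃ u : X, Commute u y ∧ (∃ k : ℕ, orderOf u = 2 ^ k) ∧ π u ^ 4 ≠ 1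
  · obtain ⟨u, h3, h4, h5⟩ := h2
    exact h χ hχ y u ho hy h1 h3 h4 h5 σ hσ hfix
  push Not at h2
  refine rat2_of_four hM hχ hy (fun u hu h3 => ?_) hσ hfix
  have h4 : u ^ 4 ∈ center X := hk (by rw [MonoidHom.mem_ker, map_pow]; exact h2 u hu h3)
  by_contra h5
  obtain ⟨k, h6⟩ := h3
  have h7 : (u ^ 4) ^ 2 ^ k = 1 := by rw [← pow_mul, mul_comm, pow_mul, ← h6, pow_orderOf_eq_one, one_pow]
  exact hy.four_ne hM hχ ho h4 (neg_of_inv hχ hf h4 (central_sq hχ hf hσ hfix h4 h7) h5) hσ hfix hu ⟨k, h6⟩ rfl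

/-- an involution which commutes with the image of an element of odd order has a commuting lift -/
theorem exists_lift (hπ : Function.Surjective π) (hk : π.ker ≤ center X) {y : X} (ho : Odd (orderOf y)) {s : S}
    (hs : s ^ 2 = 1) (hc : Commute s (π y)) : ∃ t : X, π t = s ∧ Commute t y ∧ ∃ k : ℕ, t ^ 2 ^ k = 1 := by
  obtain ⟨t, rfl⟩ := hπ s
  have hz : t * y * t⁻¹ * y⁻¹ ∈ center X := hk (by
    rw [MonoidHom.mem_ker, map_mul, map_mul, map_mul, map_inv, map_inv, hc.eq]
    group)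
  obtain ⟨z, hz1⟩ : ∃ z, z = t * y * t⁻¹ * y⁻¹ := ⟨_, rfl⟩
  rw [← hz1] at hz
  have hc1 : ∀ g, Commute g z := fun g => mem_center_iff.1 hz g
  have h1 : t * y * t⁻¹ = z * y := by rw [hz1]; group
  have h2 : z ^ orderOf y = 1 := by
    have h3 : (t * y * t⁻¹) ^ orderOf y = 1 := by rw [conj_pow, pow_orderOf_eq_one, mul_one, mul_inv_cancel]
    rwa [h1, (hc1 y).symm.mul_pow, pow_orderOf_eq_one, mul_one] at h3
  have h3 : t ^ 2 ∈ center X := hk (by rw [MonoidHom.mem_ker, map_pow, hs])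
  have h4 : z ^ 2 = 1 := by
    have h5 : t ^ 2 * y * (t ^ 2)⁻¹ = y := by rw [← mem_center_iff.1 h3 y, mul_inv_cancel_right]
    have h6 : t ^ 2 * y * (t ^ 2)⁻¹ = t * (t * y * t⁻¹) * t⁻¹ := by rw [sq]; group
    rw [h6, h1, ← mul_assoc, (hc1 t).eq, mul_assoc z, mul_assoc z, h1, ← mul_assoc, ← sq] at h5
    exact mul_eq_right.1 h5
  have h5 : z = 1 := by
    have h6 := pow_gcd_eq_one.2 ⟨h4, h2⟩
    rwa [(Nat.coprime_two_left.2 ho).gcd_eq_one, pow_one] at h6
  have h6 : Commute t y := by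
    rw [h5, one_mul] at h1
    exact mul_inv_eq_iff_eq_mul.1 h1
  obtain ⟨k, m, hm, h7⟩ := Nat.exists_eq_two_pow_mul_odd (orderOf_pos t).ne'
  refine ⟨t ^ m, ?_, h6.pow_left m, k, by rw [← pow_mul, mul_comm, ← h7, pow_orderOf_eq_one]⟩
  obtain ⟨j, rfl⟩ := hm
  rw [map_pow, pow_succ, pow_mul, hs, one_pow, one_mul]

/-- **blocks whose defect groups contain a lift of a `2`-central involution have maximal defect** -/
theorem odd_of_cent (hM : IsPModular 2 M) (hπ : Function.Surjective π) (hk : π.ker ≤ center X)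
    (hχ : IsIrrCharacter X χ) {y : X} (ho : Odd (orderOf y)) (hy : Good M χ y) {s : S} (hs : orderOf s = 2)
    (hc : Commute s (π y)) (hi : Odd (centralizer ({s} : Set S)).index)
    (h2 : IsOfCharacteristicTwo (centralizer ({s} : Set S))) : Odd (charDegree χ) := by
  have : Fact (Nat.Prime 2) := ⟨Nat.prime_two⟩
  have hfin : Finite S := Finite.of_surjective π hπ
  obtain ⟨t, rfl, hty, k, htk⟩ := exists_lift hπ hk ho (hs ▸ pow_orderOf_eq_one s) hc
  have hp : IsPGroup 2 (zpowers t) := by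
    rintro ⟨_, n, rfl⟩
    refine ⟨k, Subtype.ext ?_⟩
    change (t ^ n) ^ 2 ^ k = 1
    rw [← zpow_natCast, ← zpow_mul, mul_comm, zpow_mul, zpow_natCast, htk, one_zpow]
  obtain ⟨D, hD, htD⟩ := Basic.exists_isSylowCentralizer (g := y) hp
    (zpowers_le.2 (mem_centralizer_singleton_iff.2 hty))
  have hB : IsPBlock M (blockOf M χ) := ⟨⟨χ, hχ⟩, rfl⟩
  have hdef := hy.defect hM hχ hD
  have hDp := Basic.isPGroup_of_isSylowCentralizer hD
  have hrad := S0955.result 2 M hM _ hB D hdef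
  set H : Subgroup X := (centralizer ({π t} : Set S)).comap π with hH
  set P : Subgroup X := D ⊓ (zpowers (π t)).comap π with hP
  have htP : t ∈ P := ⟨htD (mem_zpowers t), mem_zpowers (π t)⟩
  have hmem : ∀ g : X, g ∈ H ↔ Commute (π g) (π t) := fun g => mem_centralizer_singleton_iff
  have hPH : P ≤ H := by
    rintro x ⟨-, n, hn⟩
    rw [hmem, ← hn]
    exact (Commute.refl _).zpow_left n
  have hconj : ∀ h ∈ H, ∀ x ∈ P, h * x * h⁻¹ ∈ P := by
    rintro h hh x ⟨hx, n, hn⟩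
    have h3 : π (h * x * h⁻¹) = π x := by
      have h4 : Commute (π h) (π x) := by
        rw [← hn]
        exact ((hmem h).1 hh).zpow_right n
      rw [map_mul, map_mul, map_inv, h4.eq, mul_inv_cancel_right]
    refine ⟨?_, n, hn.trans h3.symm⟩
    have hz : x⁻¹ * (h * x * h⁻¹) ∈ center X := hk (by rw [MonoidHom.mem_ker, map_mul, map_inv, h3, inv_mul_cancel])
    obtain ⟨a, ha⟩ := hDp ⟨x, hx⟩
    have ha' : x ^ 2 ^ a = 1 := congrArg Subtype.val ha
    have h4 : h * x * h⁻¹ = x * (x⁻¹ * (h * x * h⁻¹)) := by group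
    have h5 : (x⁻¹ * (h * x * h⁻¹)) ^ 2 ^ a = 1 := by
      have h6 : (h * x * h⁻¹) ^ 2 ^ a = 1 := by rw [conj_pow, ha', mul_one, mul_inv_cancel]
      have h7 : Commute x (x⁻¹ * (h * x * h⁻¹)) := mem_center_iff.1 hz x
      rwa [h4, h7.mul_pow, ha', one_mul] at h6
    rw [h4]
    exact D.mul_mem hx (Two.mem_of_central hrad hz h5)
  have hHN : H ≤ normalizer (P : Set X) := fun h hh => mem_normalizer_iff.2 fun x =>
    ⟨hconj h hh x, fun hx => by
      have h3 := hconj h⁻¹ (inv_mem hh) _ hx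
      rwa [show h⁻¹ * (h * x * h⁻¹) * h⁻¹⁻¹ = x by group] at h3⟩
  have hPp : IsPGroup 2 P := hDp.to_le inf_le_left
  obtain ⟨b, hb⟩ := (S0958.result 2 M hM P H hPp (sup_le hPH fun c hc => by
    rw [hmem]
    exact (Commute.map (show Commute c t from (mem_centralizer_iff.1 hc t htP).symm) π)) hHN _ hB).2
    ⟨D, hdef, 1, by rw [Basic.map_conj_one]; exact inf_le_left⟩
  obtain ⟨g, hg⟩ := S0906.result 2 M hM b hb.1
  obtain ⟨Q⟩ : Nonempty (Sylow 2 (centralizer ({g} : Set H))) := inferInstance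
  have hE : IsDefectGroup 2 M b _ := ⟨g, hg, Q, rfl⟩
  generalize (Q : Subgroup (centralizer ({g} : Set H))).map (centralizer ({g} : Set H)).subtype = E at hE
  let ρ : H →* centralizer ({π t} : Set S) := (π.comp H.subtype).codRestrict _ fun h => h.2
  have hρ : ∀ h : H, (ρ h : S) = π h := fun _ => rfl
  have hρs : Function.Surjective ρ := by
    rintro ⟨c, hc⟩
    obtain ⟨x, rfl⟩ := hπ c
    exact ⟨⟨x, hc⟩, rfl⟩
  have hρk : ρ.ker ≤ center H := fun h hh => mem_center_iff.2 fun g => Subtype.ext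
    (mem_center_iff.1 (hk (show π h = 1 from congrArg Subtype.val (MonoidHom.mem_ker.1 hh))) g)
  have hloc : LocChar 2 (centralizer ({π t} : Set S)) := fun K hK _ => PLocal.PConstrainedLocal.charP_normalizer h2 hK
  rcases Two.hum_loc ρ hρs hρk hloc hM hb.1 hE with h3 | ⟨R, hR⟩
  · exfalso
    have h4 : P.subgroupOf H ≤ pCore 2 H :=
      Lib.Cores.le_pCore (normal_subgroupOf_iff_le_normalizer hPH |>.2 hHN) hPp.comap_subtype
    have h5 : (⟨t, hPH htP⟩ : H) ∈ ρ.ker := h3 (S0912.result 2 M hM b hb.1 E hE (h4 htP))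
    have h6 : π t = 1 := congrArg Subtype.val (MonoidHom.mem_ker.1 h5)
    rw [h6, orderOf_one] at hs
    omega
  · obtain ⟨F, hF, hEF⟩ := S0917.result 2 M hM H b hb.1 _ hB hb E hE
    have h3 : Nat.card F = Nat.card D := by rw [S0908.result 2 M hM _ hB F hF, S0908.result 2 M hM _ hB D hdef]
    have h4 := card_dvd_of_le hEF
    rw [card_map_of_injective (subtype_injective _), h3] at h4
    obtain ⟨c, h5⟩ := h4
    have h6 : H.index = (centralizer ({π t} : Set S)).index := index_comap_of_surjective _ hπ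
    have h7 : c * D.index = E.index * H.index := by
      refine Nat.eq_of_mul_eq_mul_left (Nat.card_pos (α := E)) ?_
      rw [← mul_assoc, ← h5, D.card_mul_index, ← mul_assoc, E.card_mul_index, H.card_mul_index]
    refine hy.odd_deg hM hχ (Odd.of_dvd_nat (n := E.index * H.index) (Odd.mul ?_ (h6 ▸ hi)) ?_)
    · rw [← Nat.not_even_iff_odd, even_iff_two_dvd, ← hR]
      exact R.not_dvd_index
    · rw [← h7]
      exact (index_dvd_of_le (Basic.le_centralizer_of_isSylowCentralizer hD)).mul_left c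

end Cfsg.Agent.HZ.Spor
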